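import Cfsg.Agent.SuzukiTwoGroup.Field

/-!
The automorphism group of a Suzuki 2-group: fixed-point-freeness, regularity on the centre, and the
idempotent lemma.
-/

set_option autoImplicit false
set_option linter.unusedSectionVars false
set_option linter.style.haveILetI false

namespace CfsgLib.SuzukiTwoGroup

open scoped commutatorElement

/-- A Suzuki 2-group with its group of automorphisms. -/
structure Setting {P : Type*} [Group P] (K : Subgroup (MulAut P)) : Prop where
  finite : Finite P
  two : IsPGroup 2 P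
  comm : ∀ k l : K, k * l = l * k
  regular : ∀ x y : P, x ≠ 1 → x * x = 1 → y ≠ 1 → y * y = 1 → ∃! k : K, (k : MulAut P) x = y
  exists_two : ∃ x y : P, x ≠ y ∧ x ≠ 1 ∧ x * x = 1 ∧ y ≠ 1 ∧ y * y = 1
  center_sq : ∀ z ∈ Subgroup.center P, z * z = 1
  not_comm : ∃ x y : P, x * y ≠ y * x

theorem exists_setting {P : Type*} [Group P] (hP : Cfsg.IsSuzukiTwoGroup P) :
    ∃ K : Subgroup (MulAut P), Setting K := by
  have hc := center_sq hP
  obtain ⟨hfin, h2, hne, htwo, K, hK, hreg⟩ := hP
  haveI := hK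
  letI : CommGroup K := IsCyclic.commGroup
  exact ⟨K, hfin, h2, mul_comm, hreg, htwo, hc, hne⟩

namespace Setting

variable {P : Type*} [Group P] {K : Subgroup (MulAut P)} (hS : Setting K)
include hS

theorem mem_center {x : P} (hx : x * x = 1) : x ∈ Subgroup.center P :=
  haveI := hS.finite
  involution_mem_center K.subtype (fun x y h1 h2 h3 h4 => (hS.regular x y h1 h2 h3 h4).exists) hS.two hx

theorem act_center (k : K) {z : P} (hz : z ∈ Subgroup.center P) :
    (k : MulAut P) z ∈ Subgroup.center P :=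
  Subgroup.characteristic_iff_map_le.1 inferInstance (k : MulAut P) ⟨z, hz, rfl⟩

/-- Non-trivial elements of `K` fix only `1`. -/
theorem fpf {k : K} (hk : k ≠ 1) {x : P} (hx : (k : MulAut P) x = x) : x = 1 := by
  haveI := hS.finite
  by_contra hx1
  obtain ⟨n, hn⟩ := IsPGroup.iff_orderOf.1 hS.two x
  obtain ⟨i, rfl⟩ : ∃ i, n = i + 1 := ⟨n - 1, by
    rcases n with _ | n
    · exact absurd (orderOf_eq_one_iff.1 (hn.trans (pow_zero 2))) hx1
    · omega⟩
  set z := x ^ 2 ^ i with hz
  have hz1 : z ≠ 1 := by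
    rw [hz, Ne, ← orderOf_dvd_iff_pow_eq_one, hn, Nat.pow_dvd_pow_iff_le_right (by norm_num)]
    omega
  have hz2 : z * z = 1 := by
    rw [hz, ← pow_add, ← two_mul, ← pow_succ', ← hn, pow_orderOf_eq_one]
  exact hk ((hS.regular z z hz1 hz2 hz1 hz2).unique (by rw [hz, map_pow, hx]) rfl)

/-- Every element is `x⁻¹ * k x` for a non-trivial `k`. -/
theorem exists_inv_mul_act {k : K} (hk : k ≠ 1) (g : P) : ∃ x, g = x⁻¹ * (k : MulAut P) x := by
  haveI := hS.finite
  have hinj : Function.Injective (fun x : P => x⁻¹ * (k : MulAut P) x) := by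
    intro x y h
    have h1 : (k : MulAut P) (y * x⁻¹) = y * x⁻¹ := by
      rw [map_mul, map_inv]
      calc (k : MulAut P) y * ((k : MulAut P) x)⁻¹
          = y * (y⁻¹ * (k : MulAut P) y) * (x⁻¹ * (k : MulAut P) x)⁻¹ * x⁻¹ := by group
        _ = y * x⁻¹ := by simp only at h; rw [h]; group
    exact (mul_inv_eq_one.1 (hS.fpf hk h1)).symm
  obtain ⟨x, hx⟩ := Finite.injective_iff_surjective.1 hinj g
  exact ⟨x, hx.symm⟩

theorem exists_ne_one : ∃ k : K, k ≠ 1 := by
  obtain ⟨x, y, hxy, hx1, hx2, hy1, hy2⟩ := hS.exists_two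
  obtain ⟨k, hk, -⟩ := hS.regular x y hx1 hx2 hy1 hy2
  exact ⟨k, fun h => hxy (by rw [← hk, h]; rfl)⟩

end Setting

/-- Commuting idempotents with a transitive group of symmetries are scalars. -/
theorem idempotent_scalar {V : Type*} [AddCommGroup V] [Finite V] (h2 : ∀ x : V, x + x = 0)
    {ι : Type*} [Finite ι] {K : Type*} [Group K] (ρ : K →* AddMonoid.End V) (σ : K → ι → ι)
    (htr : ∀ x y : V, x ≠ 0 → y ≠ 0 → ∃ k, ρ k x = y) (e : ι → AddMonoid.End V)
    (hid : ∀ i v, e i (e i v) = e i v) (hadd : ∀ i j, ∃ l, ∀ v, e l v = e i v + e j v)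
    (heq : ∀ k i v, e (σ k i) (ρ k v) = ρ k (e i v)) (hσ : ∀ k, Function.Surjective (σ k)) (i : ι) :
    (∀ v, e i v = 0) ∨ ∀ v, e i v = v := by
  classical
  have hcomm : ∀ i j v, e i (e j v) = e j (e i v) := by
    intro i j v
    obtain ⟨l, hl⟩ := hadd i j
    have h := hid l v
    rw [hl, hl, map_add, map_add, hid, hid] at h
    have h' : e i (e j v) + e j (e i v) = 0 := by
      have := congrArg (· + (e i v + e j v)) h
      simp only [h2] at this
      rw [← this]
      calc e i (e j v) + e j (e i v)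
          = e i (e j v) + e j (e i v) + ((e i v + e j v) + (e i v + e j v)) := by rw [h2, add_zero]
        _ = _ := by abel
    calc e i (e j v) = e i (e j v) + (e j (e i v) + e j (e i v)) := by rw [h2, add_zero]
      _ = e j (e i v) := by rw [← add_assoc, h', zero_add]
  by_cases hV : ∀ v : V, v = 0
  · exact Or.inl fun v => hV _
  push Not at hV
  haveI : Fintype ι := Fintype.ofFinite ι
  obtain ⟨v₀, hv₀, hev⟩ : ∃ v : V, v ≠ 0 ∧ ∀ j ∈ (Finset.univ : Finset ι), e j v = v ∨ e j v = 0 := by
    generalize (Finset.univ : Finset ι) = s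
    induction s using Finset.induction with
    | empty => obtain ⟨v, hv⟩ := hV; exact ⟨v, hv, fun j hj => by simp at hj⟩
    | insert j s _ ih =>
      obtain ⟨v, hv, hs⟩ := ih
      by_cases hz : e j v = 0
      · exact ⟨v, hv, fun l hl => (Finset.mem_insert.1 hl).elim (fun h => h ▸ Or.inr hz) (hs l)⟩
      refine ⟨e j v, hz, fun l hl => (Finset.mem_insert.1 hl).elim (fun h => by rw [h]; exact Or.inl (hid j v))
        fun hl => ?_⟩
      rcases hs l hl with h | h
      · exact Or.inl (by rw [hcomm, h])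
      · exact Or.inr (by rw [hcomm, h, map_zero])
  have hall : ∀ j v, e j v = v ∨ e j v = 0 := by
    intro j v
    by_cases hv : v = 0
    · exact Or.inr (by rw [hv, map_zero])
    obtain ⟨k, rfl⟩ := htr v₀ v hv₀ hv
    obtain ⟨l, rfl⟩ := hσ k j
    rw [heq]
    rcases hev l (Finset.mem_univ l) with h | h
    · exact Or.inl (by rw [h])
    · exact Or.inr (by rw [h, map_zero])
  by_contra hcon
  push Not at hcon
  obtain ⟨⟨u, hu⟩, w, hw⟩ := hcon
  have hu' := (hall i u).resolve_right hu
  have hw' := (hall i w).resolve_left hw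
  rcases hall i (u + w) with h | h
  · rw [map_add, hu', hw', add_zero] at h
    apply hw
    rw [hw']
    calc (0 : V) = u + u := (h2 u).symm
      _ = u + (u + w) := by rw [← h]
      _ = w := by rw [← add_assoc, h2, zero_add]
  · rw [map_add, hu', hw', add_zero] at h
    exact hu (by rw [h, map_zero])

end CfsgLib.SuzukiTwoGroup
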