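import Mathlib

/-!
Central extensions of elementary abelian 2-groups by elementary abelian 2-groups are determined by their
squaring maps.
-/

set_option autoImplicit false
set_option linter.unusedSectionVars false
set_option linter.style.haveILetI false

namespace CfsgLib.SuzukiTwoGroup

open scoped commutatorElement

/-- Two central extensions of an elementary abelian 2-group with the same squaring map are isomorphic. -/
theorem mulEquiv_of_sq {P G V : Type*} [Group P] [Group G] [Finite P] [Finite G] [CommGroup V]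
    (f : P →* V) (g : G →* V) (hf : Function.Surjective f) (hg : Function.Surjective g)
    (hV : ∀ v : V, v * v = 1) (hfc : f.ker ≤ Subgroup.center P) (hgc : g.ker ≤ Subgroup.center G)
    (e : f.ker ≃* g.ker) (hf2 : ∀ z ∈ f.ker, z * z = 1)
    (hsq : ∀ p x, f p = g x → ∀ (h : p * p ∈ f.ker), (e ⟨p * p, h⟩ : G) = x * x) :
    Nonempty (P ≃* G) := by
  classical
  set D : Subgroup (P × G) := (f.comp (MonoidHom.fst P G)).eqLocus (g.comp (MonoidHom.snd P G)) with hD
  set iota : f.ker →* P × G := f.ker.subtype.prod (g.ker.subtype.comp e.toMonoidHom) with hiota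
  set Δ : Subgroup (P × G) := iota.range with hΔ
  have hmemD : ∀ {p x}, (p, x) ∈ D ↔ f p = g x := fun {p x} => Iff.rfl
  have hΔD : Δ ≤ D := by
    rintro ⟨p, x⟩ ⟨z, hz⟩
    rw [← hz]
    exact (z.2 : f (z : P) = 1).trans ((e z).2 : g (e z : G) = 1).symm
  have hsqD : ∀ d ∈ D, d * d ∈ Δ := by
    rintro ⟨p, x⟩ hd
    have h : p * p ∈ f.ker := by rw [MonoidHom.mem_ker, map_mul, hV]
    exact ⟨⟨p * p, h⟩, Prod.ext rfl (hsq p x hd h)⟩
  have hcen : ∀ d ∈ Δ, ∀ y : P × G, d * y = y * d := by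
    rintro _ ⟨z, rfl⟩ ⟨p, x⟩
    exact Prod.ext ((Subgroup.mem_center_iff.1 (hfc z.2) p).symm)
      ((Subgroup.mem_center_iff.1 (hgc (e z).2) x).symm)
  -- a maximal subgroup meeting the kernel trivially
  have hex : ∃ H : Subgroup (P × G), (Δ ≤ H ∧ H ≤ D ∧ ∀ z : P, (z, (1 : G)) ∈ H → z = 1) ∧
      ∀ H' : Subgroup (P × G), (Δ ≤ H' ∧ H' ≤ D ∧ ∀ z : P, (z, (1 : G)) ∈ H' → z = 1) → H ≤ H' → H' ≤ H := by
    obtain ⟨H, hH⟩ := (Set.toFinite {H : Subgroup (P × G) | Δ ≤ H ∧ H ≤ D ∧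
      ∀ z : P, (z, (1 : G)) ∈ H → z = 1}).exists_maximal ⟨Δ, le_rfl, hΔD, fun z ⟨w, hw⟩ => by
        have h1 : (e w : G) = 1 := congrArg Prod.snd hw
        have h2 : e w = 1 := Subtype.ext h1
        rw [e.map_eq_one_iff] at h2
        have h3 : (w : P) = z := congrArg Prod.fst hw
        rw [← h3, h2]
        rfl⟩
    exact ⟨H, hH.1, fun H' h' hle => hH.2 h' hle⟩
  obtain ⟨H, ⟨hΔH, hHD, hHker⟩, hmax⟩ := hex
  have hcom : ∀ d ∈ D, ∀ h ∈ H, d * h * d⁻¹ ∈ H := by
    intro d hd h hh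
    have h1 := hsqD _ (mul_mem hd (hHD hh))
    have h2 := hsqD _ hd
    have h3 := hsqD _ (hHD hh)
    have hdinv : d⁻¹ = (d * d)⁻¹ * d := by group
    have key : d * h * d⁻¹ = (d * h * (d * h)) * h⁻¹ * (d * d)⁻¹ := by
      calc d * h * d⁻¹ = (d * h * (d * h)) * (h⁻¹ * d⁻¹ * d⁻¹) := by group
        _ = _ := by group
    rw [key]
    exact mul_mem (mul_mem (hΔH h1) (inv_mem hh)) (inv_mem (hΔH h2))
  have hcover : ∀ d ∈ D, ∃ z : P, z ∈ f.ker ∧ ((z, (1 : G)) : P × G)⁻¹ * d ∈ H := by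
    intro d hd
    by_cases hdH : d ∈ H
    · exact ⟨1, one_mem _, by rw [show ((1 : P), (1 : G)) = (1 : P × G) from rfl, inv_one, one_mul]; exact hdH⟩
    -- the subgroup `H ∪ d H`
    let H' : Subgroup (P × G) :=
      { carrier := {y | y ∈ H ∨ d⁻¹ * y ∈ H}
        one_mem' := Or.inl (one_mem _)
        mul_mem' := fun {y w} hy hw => by
          rcases hy with hy | hy <;> rcases hw with hw | hw
          · exact Or.inl (mul_mem hy hw)
          · refine Or.inr ?_
            have := mul_mem (hcom d⁻¹ (inv_mem hd) y hy) hw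
            rw [inv_inv] at this
            rwa [show d⁻¹ * (y * w) = d⁻¹ * y * d * (d⁻¹ * w) by group]
          · refine Or.inr ?_
            rw [← mul_assoc]; exact mul_mem hy hw
          · refine Or.inl ?_
            have h1 := mul_mem (mul_mem (hcom d hd _ hy) (hΔH (hsqD d hd))) hw
            rwa [show d * (d⁻¹ * y) * d⁻¹ * (d * d) * (d⁻¹ * w) = y * w by group] at h1
        inv_mem' := fun {y} hy => by
          rcases hy with hy | hy
          · exact Or.inl (inv_mem hy)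
          · refine Or.inr ?_
            have h1 := mul_mem (inv_mem (hΔH (hsqD d hd))) (hcom d hd _ (inv_mem hy))
            rwa [show (d * d)⁻¹ * (d * (d⁻¹ * y)⁻¹ * d⁻¹) = d⁻¹ * y⁻¹ by group] at h1 }
    have hnot : ¬ (Δ ≤ H' ∧ H' ≤ D ∧ ∀ z : P, (z, (1 : G)) ∈ H' → z = 1) := fun h' =>
      hdH (hmax H' h' (fun y hy => Or.inl hy) (Or.inr (by rw [inv_mul_cancel]; exact one_mem _)))
    have hle : H' ≤ D := fun y hy => hy.elim (fun h => hHD h) fun h => by
      have := mul_mem hd (hHD h)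
      rwa [mul_inv_cancel_left] at this
    obtain ⟨z, hz, hz1⟩ : ∃ z : P, (z, (1 : G)) ∈ H' ∧ z ≠ 1 := by
      by_contra h
      push Not at h
      exact hnot ⟨hΔH.trans (fun y hy => Or.inl hy), hle, h⟩
    rcases hz with hz | hz
    · exact absurd (hHker z hz) hz1
    · refine ⟨z, ?_, ?_⟩
      · have := mul_mem hd (hHD hz)
        rw [mul_inv_cancel_left, hmemD, map_one] at this
        exact this
      · have := inv_mem hz
        rwa [mul_inv_rev, inv_inv] at this
  have hinjP : ∀ x : G, ((1 : P), x) ∈ H → x = 1 := by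
    intro x hx
    have hgx : x ∈ g.ker := ((hmemD.1 (hHD hx)).symm.trans (map_one f) : g x = 1)
    set w := e.symm ⟨x, hgx⟩
    have h1 : ((w : P), x) ∈ Δ := ⟨w, Prod.ext rfl (by
      show (e (e.symm ⟨x, hgx⟩) : G) = x
      rw [e.apply_symm_apply])⟩
    have h2 : ((w : P), (1 : G)) ∈ H := by
      have := mul_mem (hΔH h1) (inv_mem hx)
      rwa [Prod.inv_mk, Prod.mk_mul_mk, inv_one, mul_one, mul_inv_cancel] at this
    have h3 : w = 1 := Subtype.ext (hHker _ h2)
    have h4 : (⟨x, hgx⟩ : g.ker) = 1 := by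
      rw [← e.apply_symm_apply ⟨x, hgx⟩, show e.symm ⟨x, hgx⟩ = w from rfl, h3, map_one]
    exact congrArg Subtype.val h4
  let πP : H →* P := (MonoidHom.fst P G).comp H.subtype
  let πG : H →* G := (MonoidHom.snd P G).comp H.subtype
  have hP : Function.Bijective πP := by
    refine ⟨(injective_iff_map_eq_one πP).2 fun ⟨⟨p, x⟩, hh⟩ hp => ?_, fun p => ?_⟩
    · have hp' : p = 1 := hp
      subst hp'
      exact Subtype.ext (Prod.ext rfl (hinjP x hh))
    · obtain ⟨x, hx⟩ := hg (f p)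
      obtain ⟨z, hz, hzH⟩ := hcover (p, x) (hmemD.2 hx.symm)
      have hΔz : ((z : P), (e ⟨z, hz⟩ : G)) ∈ Δ := ⟨⟨z, hz⟩, rfl⟩
      refine ⟨⟨_, mul_mem (hΔH hΔz) hzH⟩, ?_⟩
      show z * (z⁻¹ * p) = p
      rw [mul_inv_cancel_left]
  have hG : Function.Bijective πG := by
    refine ⟨(injective_iff_map_eq_one πG).2 fun ⟨⟨p, x⟩, hh⟩ hx => ?_, fun x => ?_⟩
    · have hx' : x = 1 := hx
      subst hx'
      exact Subtype.ext (Prod.ext (hHker p hh) rfl)
    · obtain ⟨p, hp⟩ := hf (g x)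
      obtain ⟨z, hz, hzH⟩ := hcover (p, x) (hmemD.2 hp)
      refine ⟨⟨_, hzH⟩, ?_⟩
      show (1 : G)⁻¹ * x = x
      rw [inv_one, one_mul]
  exact ⟨(MulEquiv.ofBijective πP hP).symm.trans (MulEquiv.ofBijective πG hG)⟩

end CfsgLib.SuzukiTwoGroup
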