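import Cfsg.Agent.SuzukiTwoGroup.Order
import Cfsg.Agent.SuzukiTwoGroup.CentralExt

/-!
Suzuki 2-groups of order `q²` are of type A.
-/

set_option autoImplicit false
set_option linter.unusedSectionVars false
set_option linter.style.haveILetI false
set_option maxHeartbeats 1000000

namespace CfsgLib.SuzukiTwoGroup

open scoped commutatorElement

section Model

variable {F : Type*} [Field F]

/-- The member `(x, y)` of the group of type A. -/
def typeAMat (φ : F →+* F) (x y : F) : GL (Fin 3) F :=
  ⟨!![1, 0, 0; x, 1, 0; y, φ x, 1], !![1, 0, 0; -x, 1, 0; φ x * x - y, -φ x, 1],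
    by ext i j; fin_cases i <;> fin_cases j <;> simp [Matrix.mul_apply, Fin.sum_univ_three] <;> ring,
    by ext i j; fin_cases i <;> fin_cases j <;> simp [Matrix.mul_apply, Fin.sum_univ_three] <;> ring⟩

theorem typeAMat_mul (φ : F →+* F) (x y x' y' : F) :
    typeAMat φ x y * typeAMat φ x' y' = typeAMat φ (x + x') (y + y' + φ x * x') := by
  apply Units.ext
  show !![1, 0, 0; x, 1, 0; y, φ x, 1] * !![1, 0, 0; x', 1, 0; y', φ x', 1] =
    !![1, 0, 0; x + x', 1, 0; y + y' + φ x * x', φ (x + x'), 1]
  ext i j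
  fin_cases i <;> fin_cases j <;> simp [Matrix.mul_apply, Fin.sum_univ_three, map_add] <;> ring

theorem typeAMat_zero (φ : F →+* F) : typeAMat φ 0 0 = 1 := by
  apply Units.ext
  show !![(1 : F), 0, 0; 0, 1, 0; 0, φ 0, 1] = 1
  ext i j
  fin_cases i <;> fin_cases j <;> simp

theorem typeAMat_inj {φ : F →+* F} {x y x' y' : F} (h : typeAMat φ x y = typeAMat φ x' y') :
    x = x' ∧ y = y' := by
  have h' := congrArg (fun g : GL (Fin 3) F => (g : Matrix (Fin 3) (Fin 3) F)) h
  exact ⟨congrFun (congrFun h' 1) 0, congrFun (congrFun h' 2) 0⟩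

theorem mem_typeA_iff (φ : F →+* F) {g : GL (Fin 3) F} :
    g ∈ Cfsg.suzukiTypeA F φ ↔ ∃ x y, g = typeAMat φ x y := by
  constructor
  · intro hg
    induction hg using Subgroup.closure_induction with
    | mem g hg => obtain ⟨x, y, h⟩ := hg; exact ⟨x, y, Units.ext h⟩
    | one => exact ⟨0, 0, (typeAMat_zero φ).symm⟩
    | mul g h _ _ ihg ihh =>
      obtain ⟨x, y, rfl⟩ := ihg
      obtain ⟨x', y', rfl⟩ := ihh
      exact ⟨_, _, typeAMat_mul φ x y x' y'⟩
    | inv g _ ihg =>
      obtain ⟨x, y, rfl⟩ := ihg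
      refine ⟨-x, φ x * x - y, inv_eq_of_mul_eq_one_right ?_⟩
      rw [typeAMat_mul, add_neg_cancel, show y + (φ x * x - y) + φ x * -x = 0 by ring, typeAMat_zero]
  · rintro ⟨x, y, rfl⟩
    exact Subgroup.subset_closure ⟨x, y, rfl⟩

end Model

/-- An automorphism `φ` of a finite field of characteristic two with `x ↦ x * φ x` injective has odd order. -/
theorem odd_orderOf_of_injective {F : Type*} [Field F] [Fintype F] [CharP F 2] (φ : F ≃+* F)
    (hinj : Function.Injective fun x => x * φ x) : Odd (orderOf φ) := by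
  haveI := FieldMaps.finite_ringAut (F := F)
  by_contra heven
  rw [Nat.not_odd_iff_even, even_iff_two_dvd] at heven
  by_cases hfix : ∀ x, φ (φ x) = x → φ x = x
  · have hsame : FixedPoints.subfield (Subgroup.zpowers φ) F =
        FixedPoints.subfield (Subgroup.zpowers (φ * φ)) F := by
      ext x
      constructor
      · rintro hx ⟨g, hg⟩
        exact hx ⟨g, Subgroup.zpowers_le.2 (mul_mem (Subgroup.mem_zpowers φ) (Subgroup.mem_zpowers φ)) hg⟩
      · rintro hx ⟨g, hg⟩
        have h1 : φ x = x := hfix x (hx ⟨φ * φ, Subgroup.mem_zpowers _⟩)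
        have h2 : φ ∈ MulAction.stabilizer (F ≃+* F) x := h1
        exact Subgroup.zpowers_le.2 h2 hg
    haveI : Fintype (Subgroup.zpowers φ) := Fintype.ofFinite _
    haveI : Fintype (Subgroup.zpowers (φ * φ)) := Fintype.ofFinite _
    have h1 := FixedPoints.finrank_eq_card (Subgroup.zpowers φ) F
    rw [hsame, FixedPoints.finrank_eq_card (Subgroup.zpowers (φ * φ)) F, ← Nat.card_eq_fintype_card,
      ← Nat.card_eq_fintype_card, Nat.card_zpowers, Nat.card_zpowers, ← pow_two, orderOf_pow' φ (by norm_num),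
      Nat.gcd_eq_right heven] at h1
    have := orderOf_pos φ
    omega
  · push Not at hfix
    obtain ⟨x, hx2, hx⟩ := hfix
    have hx0 : x ≠ 0 := fun h => hx (by rw [h, map_zero])
    have hy : φ x / x * φ (φ x / x) = 1 := by
      rw [map_div₀, hx2, div_mul_div_comm, mul_comm x, div_self (mul_ne_zero (by simpa using hx0) hx0)]
    have := hinj (show (fun u => u * φ u) (φ x / x) = (fun u => u * φ u) 1 by
      simp only [hy, map_one, mul_one])
    rw [div_eq_one_iff_eq hx0] at this
    exact hx this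

universe w

namespace Setting

variable {P : Type w} [Group P] {K : Subgroup (MulAut P)} (hS : Setting K)
include hS

theorem typeA (hcard : Nat.card P = Nat.card (Subgroup.center P) ^ 2) :
    ∃ (F : Type) (_ : Field F) (_ : Fintype F) (φ : F ≃+* F),
      Fintype.card F = Nat.card (Subgroup.center P) ∧ φ ≠ RingEquiv.refl F ∧ Odd (orderOf φ) ∧
        Nonempty (P ≃* Cfsg.suzukiTypeA F (φ : F →+* F)) := by
  classical
  haveI := hS.finite
  haveI : Fact (Nat.Prime 2) := ⟨Nat.prime_two⟩
  set Z := Subgroup.center P with hZ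
  have hcm : ∀ {c : P}, c ∈ Z → ∀ g : P, c * g = g * c := fun hc g => (Subgroup.mem_center_iff.1 hc g).symm
  have hq : Nat.card (P ⧸ Z) = Nat.card Z := by
    have h := Subgroup.card_eq_card_quotient_mul_card_subgroup Z
    rw [hcard, pow_two] at h
    exact (Nat.eq_of_mul_eq_mul_right Nat.card_pos h).symm
  letI : CommGroup Z := { (inferInstance : Group Z) with
    mul_comm := fun x y => Subtype.ext (hcm x.2 y) }
  letI : CommGroup (P ⧸ Z) := { (inferInstance : Group (P ⧸ Z)) with
    mul_comm := fun x y => by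
      obtain ⟨x, rfl⟩ := QuotientGroup.mk'_surjective Z x
      obtain ⟨y, rfl⟩ := QuotientGroup.mk'_surjective Z y
      rw [← commutatorElement_eq_one_iff_mul_comm, ← map_commutatorElement]
      exact (QuotientGroup.eq_one_iff _).2 (hS.commutator_mem_center x y) }
  have hkZ : ∀ (k : K), Z.map ((k : MulAut P) : P →* P) = Z := fun k =>
    Subgroup.characteristic_iff_map_eq.1 inferInstance _
  -- the two modules
  let ρZ : K →* AddMonoid.End (Additive Z) :=
    { toFun := fun k => MonoidHom.toAdditive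
        (((k : MulAut P).toMonoidHom.comp Z.subtype).codRestrict Z fun z => hS.act_center k z.2)
      map_one' := by ext u; simp; rfl
      map_mul' := fun k l => by ext u; simp; rfl }
  let ρV : K →* AddMonoid.End (Additive (P ⧸ Z)) :=
    { toFun := fun k => MonoidHom.toAdditive (QuotientGroup.congr Z Z (k : MulAut P) (hkZ k)).toMonoidHom
      map_one' := by
        refine AddMonoidHom.ext fun v => ?_
        obtain ⟨x, hx⟩ := QuotientGroup.mk'_surjective Z v.toMul
        have hv : v = Additive.ofMul (QuotientGroup.mk' Z x) := hx.symm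
        subst hv
        rfl
      map_mul' := fun k l => by
        refine AddMonoidHom.ext fun v => ?_
        obtain ⟨x, hx⟩ := QuotientGroup.mk'_surjective Z v.toMul
        have hv : v = Additive.ofMul (QuotientGroup.mk' Z x) := hx.symm
        subst hv
        rfl }
  have hρV : ∀ (k : K) (x : P), ρV k (Additive.ofMul (QuotientGroup.mk' Z x)) =
      Additive.ofMul (QuotientGroup.mk' Z ((k : MulAut P) x)) := fun k x => rfl
  have hρZ : ∀ (k : K) v, ((ρZ k v).toMul : P) = (k : MulAut P) (v.toMul : P) := fun k v => rfl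
  have h2Z : ∀ v : Additive Z, v + v = 0 := fun v =>
    Additive.toMul.injective (Subtype.ext (hS.center_sq _ v.toMul.2))
  have h2V : ∀ v : Additive (P ⧸ Z), v + v = 0 := fun v => by
    obtain ⟨x, hx⟩ := QuotientGroup.mk'_surjective Z v.toMul
    apply Additive.toMul.injective
    show v.toMul * v.toMul = 1
    rw [← hx, ← map_mul]
    exact (QuotientGroup.eq_one_iff _).2 (hS.sq_mem_center x)
  have htrZ : ∀ v w : Additive Z, v ≠ 0 → w ≠ 0 → ∃ k, ρZ k v = w := fun v w hv hw => by
    obtain ⟨k, hk, -⟩ := hS.regular v.toMul w.toMul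
      (fun h => hv (Additive.toMul.injective (Subtype.ext h))) (hS.center_sq _ v.toMul.2)
      (fun h => hw (Additive.toMul.injective (Subtype.ext h))) (hS.center_sq _ w.toMul.2)
    exact ⟨k, Additive.toMul.injective (Subtype.ext hk)⟩
  -- squaring
  let Q : Additive (P ⧸ Z) → Additive Z := fun v =>
    Additive.ofMul ⟨v.toMul.out * v.toMul.out, hS.sq_mem_center _⟩
  have hQmk : ∀ x : P, ((Q (Additive.ofMul (QuotientGroup.mk' Z x))).toMul : P) = x * x := by
    intro x
    obtain ⟨⟨c, hc⟩, hc'⟩ := QuotientGroup.mk_out_eq_mul Z x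
    show ((x : P ⧸ Z).out) * (x : P ⧸ Z).out = x * x
    rw [hc']
    calc x * c * (x * c) = x * (c * x) * c := by group
      _ = x * x * (c * c) := by rw [hcm hc x]; group
      _ = x * x := by rw [hS.center_sq c hc, mul_one]
  have hQk : ∀ k v, Q (ρV k v) = ρZ k (Q v) := by
    intro k v
    obtain ⟨x, hx⟩ := QuotientGroup.mk'_surjective Z v.toMul
    have hv : v = Additive.ofMul (QuotientGroup.mk' Z x) := hx.symm
    subst hv
    apply Additive.toMul.injective
    apply Subtype.ext
    rw [hρV, hQmk, hρZ, hQmk, map_mul]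
  have hQ0 : ∀ v, Q v = 0 → v = 0 := by
    intro v hv
    obtain ⟨x, hx⟩ := QuotientGroup.mk'_surjective Z v.toMul
    have hv' : v = Additive.ofMul (QuotientGroup.mk' Z x) := hx.symm
    subst hv'
    have := hQmk x
    rw [hv] at this
    exact congrArg Additive.ofMul ((QuotientGroup.eq_one_iff x).2 (hS.mem_center this.symm))
  have htrV : ∀ v w : Additive (P ⧸ Z), v ≠ 0 → w ≠ 0 → ∃ k, ρV k v = w := by
    intro v w hv hw
    obtain ⟨k, hk⟩ := htrZ (Q v) (Q w) (fun h => hv (hQ0 v h)) (fun h => hw (hQ0 w h))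
    refine ⟨k, ?_⟩
    have hQzero : Q 0 = 0 := by
      apply Additive.toMul.injective
      apply Subtype.ext
      have := hQmk 1
      rw [map_one, mul_one] at this
      exact this
    have hsurj : Function.Surjective Q := by
      intro u
      by_cases hu : u = 0
      · exact ⟨0, hu ▸ hQzero⟩
      obtain ⟨l, hl⟩ := htrZ (Q v) u (fun h => hv (hQ0 v h)) hu
      exact ⟨ρV l v, by rw [hQk, hl]⟩
    have hbij : Function.Bijective Q :=
      Function.Surjective.bijective_of_nat_card_le hsurj (le_of_eq hq)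
    exact hbij.1 (by rw [hQk, hk])
  -- base points
  obtain ⟨a, b, hab⟩ := hS.not_comm
  have haZ : a ∉ Z := fun h => hab (hcm h b)
  set vV : Additive (P ⧸ Z) := Additive.ofMul (QuotientGroup.mk' Z a) with hvV
  have hvV0 : vV ≠ 0 := fun h => haZ ((QuotientGroup.eq_one_iff a).1 h)
  obtain ⟨F₁, iF₁, iN₁, iC₁, Φ₁, χ₁, hΦ11, hΦ1, hχ1⟩ := exists_field h2V hS.comm ρV htrV hvV0
  obtain ⟨F₂, iF₂, iN₂, iC₂, Φ₂, χ₂, hΦ21, hΦ2, -⟩ :=
    exists_field h2Z hS.comm ρZ htrZ (m := Q vV) fun h => hvV0 (hQ0 _ h)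
  obtain ⟨n, hn⟩ := IsPGroup.iff_card.1 (hS.two.to_subgroup Z)
  have hn0 : n ≠ 0 := fun h => by
    obtain ⟨x, -, -, hx1, hx2, -⟩ := hS.exists_two
    rw [h, pow_zero] at hn
    haveI := (Nat.card_eq_one_iff_unique.1 hn).1
    exact hx1 (congrArg Subtype.val (Subsingleton.elim (⟨x, hS.mem_center hx2⟩ : Z) 1))
  set F := GaloisField 2 n
  haveI : Fintype F := Fintype.ofFinite F
  have hcardF : Fintype.card F = Nat.card Z := by
    rw [← Nat.card_eq_fintype_card, GaloisField.card 2 n hn0, hn]
  have hc1 : Fintype.card F₁ = Fintype.card F := by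
    rw [hcardF, ← hq, ← Nat.card_eq_fintype_card]
    exact (Nat.card_congr Φ₁.toEquiv).trans (Nat.card_congr Additive.toMul)
  have hc2 : Fintype.card F₂ = Fintype.card F := by
    rw [hcardF, ← Nat.card_eq_fintype_card]
    exact (Nat.card_congr Φ₂.toEquiv).trans (Nat.card_congr Additive.toMul)
  set ι₁ := FiniteField.ringEquivOfCardEq hc1 with hι₁
  set ι₂ := FiniteField.ringEquivOfCardEq hc2 with hι₂
  let A : F ≃+ Additive (P ⧸ Z) := ι₁.symm.toAddEquiv.trans Φ₁
  let B : F ≃+ Additive Z := ι₂.symm.toAddEquiv.trans Φ₂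
  let q : F → F := fun x => B.symm (Q (A x))
  have hq1 : q 1 = 1 := by
    show ι₂ (Φ₂.symm (Q (Φ₁ (ι₁.symm 1)))) = 1
    rw [map_one ι₁.symm, hΦ11, ← hΦ21, Φ₂.symm_apply_apply, map_one]
  have hqmul : ∀ x y, q (x * y) = q x * q y := by
    intro x y
    by_cases hx : x = 0
    · have hQzero : Q 0 = 0 := by
        apply Additive.toMul.injective
        apply Subtype.ext
        have := hQmk 1
        rw [map_one, mul_one] at this
        exact this
      have hq0 : q 0 = 0 := by show B.symm (Q (A 0)) = 0; rw [map_zero, hQzero, map_zero]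
      rw [hx, zero_mul, hq0, zero_mul]
    obtain ⟨k, hk⟩ := hχ1 (ι₁.symm x) (by simpa using hx)
    have hA : ∀ y, A (x * y) = ρV k (A y) := fun y => by
      show Φ₁ (ι₁.symm (x * y)) = ρV k (Φ₁ (ι₁.symm y))
      rw [map_mul, ← hk, hΦ1]
    have hqk : ∀ y, q (x * y) = ι₂ (χ₂ k) * q y := fun y => by
      show ι₂ (Φ₂.symm (Q (A (x * y)))) = ι₂ (χ₂ k) * ι₂ (Φ₂.symm (Q (A y)))
      rw [hA, hQk, ← map_mul ι₂]
      congr 1
      rw [Φ₂.symm_apply_eq, hΦ2, Φ₂.apply_symm_apply]
    rw [hqk, show q x = ι₂ (χ₂ k) by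
      have := hqk 1
      rwa [hq1, mul_one, mul_one] at this]
  -- the polar form
  have hQmul : ∀ x y : P, x * y * (x * y) = x * x * (y * y) * ⁅x, y⁆ := by
    intro x y
    have hyx : ⁅y, x⁆ = ⁅x, y⁆ := by
      rw [← commutatorElement_inv x y]
      exact inv_eq_of_mul_eq_one_right (hS.center_sq _ (hS.commutator_mem_center x y))
    calc x * y * (x * y) = x * (⁅y, x⁆ * (x * y)) * y := by simp only [commutatorElement_def]; group
      _ = ⁅y, x⁆ * (x * (x * y) * y) := by
          rw [← mul_assoc x, ← hcm (hS.commutator_mem_center y x) x]; group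
      _ = _ := by rw [hcm (hS.commutator_mem_center y x), hyx]; group
  have hlift : ∀ v : F, ∃ p : P, A v = Additive.ofMul (QuotientGroup.mk' Z p) := fun v => by
    obtain ⟨p, hp⟩ := QuotientGroup.mk'_surjective Z (A v).toMul
    exact ⟨p, congrArg Additive.ofMul hp.symm⟩
  have hpolar : ∀ (v w : F) (p r : P), A v = Additive.ofMul (QuotientGroup.mk' Z p) →
      A w = Additive.ofMul (QuotientGroup.mk' Z r) →
      B (q (v + w) + q v + q w) = Additive.ofMul ⟨⁅p, r⁆, hS.commutator_mem_center p r⟩ := by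
    intro v w p r hp hr
    simp only [map_add, q, B.apply_symm_apply, hp, hr, ← ofMul_mul, ← map_mul]
    apply Additive.toMul.injective
    apply Subtype.ext
    simp only [toMul_add, Subgroup.coe_mul, hQmk, hQmul, toMul_ofMul]
    have hp2 := hS.sq_mem_center p
    have hr2 := hS.sq_mem_center r
    have hc := hS.commutator_mem_center p r
    calc p * p * (r * r) * ⁅p, r⁆ * (p * p) * (r * r)
        = p * p * ((r * r) * ⁅p, r⁆ * (p * p)) * (r * r) := by group
      _ = p * p * ((p * p) * ((r * r) * ⁅p, r⁆)) * (r * r) := by rw [hcm hp2 ((r * r) * ⁅p, r⁆)]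
      _ = (p * p * (p * p)) * ((r * r) * ⁅p, r⁆ * (r * r)) := by group
      _ = (r * r) * ⁅p, r⁆ * (r * r) := by rw [hS.center_sq _ hp2, one_mul]
      _ = ⁅p, r⁆ * ((r * r) * (r * r)) := by rw [hcm hr2 ⁅p, r⁆]; group
      _ = ⁅p, r⁆ := by rw [hS.center_sq _ hr2, mul_one]
  have hthird : ∀ x y z : F, q (x + y + z) + q (x + y) + q (x + z) + q (y + z) + q x + q y + q z = 0 := by
    intro x y z
    obtain ⟨px, hx⟩ := hlift x
    obtain ⟨py, hy⟩ := hlift y
    obtain ⟨pz, hz⟩ := hlift z
    have h1 := hpolar (x + y) z (px * py) pz (by rw [map_add, hx, hy, map_mul]; rfl) hz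
    have h2 := hpolar x z px pz hx hz
    have h3 := hpolar y z py pz hy hz
    apply B.injective
    rw [map_zero, show q (x + y + z) + q (x + y) + q (x + z) + q (y + z) + q x + q y + q z =
      (q (x + y + z) + q (x + y) + q z) + ((q (x + z) + q x + q z) + (q (y + z) + q y + q z)) by
        linear_combination -(q z) * (CharTwo.two_eq_zero (R := F)), map_add B (_ + _ + q z), map_add B
          (q (x + z) + q x + q z), h1, h2, h3]
    apply Additive.toMul.injective
    apply Subtype.ext
    show ⁅px * py, pz⁆ * (⁅px, pz⁆ * ⁅py, pz⁆) = 1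
    have hc := hS.commutator_mem_center py pz
    rw [show ⁅px * py, pz⁆ = px * ⁅py, pz⁆ * px⁻¹ * ⁅px, pz⁆ by simp only [commutatorElement_def]; group,
      ← hcm hc px, mul_inv_cancel_right, ← hcm hc ⁅px, pz⁆]
    exact hS.center_sq _ (mul_mem hc (hS.commutator_mem_center px pz))
  obtain ⟨β, hβ⟩ := FieldMaps.exists_diagonal q hthird
  obtain ⟨s, c, hc⟩ := FieldMaps.exists_coeff_biadditive β
  let qh : F →* F := { toFun := q, map_one' := hq1, map_mul' := hqmul }
  obtain ⟨σ, τ, hστ⟩ : ∃ σ τ : F ≃+* F, ∀ x, q x = σ x * τ x := by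
    by_contra hno
    push Not at hno
    have h := coeff_eq_zero (insert none (s.image some))
      (fun o : Option ((F ≃+* F) × (F ≃+* F)) => o.elim qh
        (fun p => ((p.1 : F →+* F) : F →* F) * ((p.2 : F →+* F) : F →* F)))
      (fun o => o.elim 1 c) (fun x => by
        rw [Finset.sum_insert (by simp), Finset.sum_image fun _ _ _ _ h => Option.some_injective _ h]
        show 1 * q x + ∑ p ∈ s, c p * (p.1 x * p.2 x) = 0
        rw [one_mul, ← hc, ← hβ]
        exact CharTwo.add_self_eq_zero _) qh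
    rw [Finset.sum_eq_single (none : Option ((F ≃+* F) × (F ≃+* F))) (fun o ho hne => ?_)
      (fun h' => absurd (by simp) h')] at h
    · exact one_ne_zero h
    · rcases o with _ | p
      · exact absurd rfl hne
      · obtain ⟨x, hx⟩ := hno p.1 p.2
        exact absurd (DFunLike.congr_fun (Finset.mem_filter.1 ho).2 x) (Ne.symm hx)
  set φ : F ≃+* F := σ.symm.trans τ with hφ
  have hqφ : ∀ x, q x = σ x * φ (σ x) := fun x => by
    rw [hστ, hφ, RingEquiv.trans_apply, RingEquiv.symm_apply_apply]
  have hqinj : Function.Injective q := by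
    intro x y hxy
    apply A.injective
    have hQinj : Function.Injective Q := by
      intro v w h
      by_cases hv : v = 0
      · subst hv
        refine (hQ0 w ?_).symm
        rw [← h]
        apply Additive.toMul.injective
        apply Subtype.ext
        have := hQmk 1
        rw [map_one, mul_one] at this
        exact this
      obtain ⟨k, rfl⟩ : ∃ k, ρV k v = w := htrV v w hv fun hw => hv (hQ0 v (by
        rw [h, hw]
        apply Additive.toMul.injective
        apply Subtype.ext
        have := hQmk 1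
        rw [map_one, mul_one] at this
        exact this))
      rw [hQk] at h
      have hne : Q v ≠ 0 := fun h' => hv (hQ0 v h')
      have hk : k = 1 := (hS.regular (Q v).toMul (Q v).toMul
        (fun h' => hne (Additive.toMul.injective (Subtype.ext h'))) (hS.center_sq _ (Q v).toMul.2)
        (fun h' => hne (Additive.toMul.injective (Subtype.ext h'))) (hS.center_sq _ (Q v).toMul.2)).unique
        (congrArg (fun u => (u.toMul : P)) h.symm) rfl
      rw [hk, map_one]; rfl
    exact hQinj (B.symm.injective hxy)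
  have hφ1 : φ ≠ RingEquiv.refl F := by
    intro h
    apply hab
    rw [← commutatorElement_eq_one_iff_mul_comm]
    have := hpolar (A.symm (Additive.ofMul (QuotientGroup.mk' Z a)))
      (A.symm (Additive.ofMul (QuotientGroup.mk' Z b))) a b (A.apply_symm_apply _) (A.apply_symm_apply _)
    simp only [hqφ, h, RingEquiv.refl_apply, map_add σ, CharTwo.add_mul_self, CharTwo.add_self_eq_zero,
      add_assoc, map_zero] at this
    rw [← add_assoc, CharTwo.add_self_eq_zero, map_zero] at this
    exact (congrArg (fun u => (u.toMul : P)) this).symm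
  refine ⟨F, inferInstance, inferInstance, φ, hcardF, hφ1,
    odd_orderOf_of_injective φ (fun x y h => σ.symm.injective (hqinj (by
      rw [hqφ, hqφ, RingEquiv.apply_symm_apply, RingEquiv.apply_symm_apply]; exact h))), ?_⟩
  -- the two extensions of `F` by `F`
  set M := Cfsg.suzukiTypeA F (φ : F →+* F) with hM
  haveI : Finite M := inferInstance
  have hent : ∀ g : M, ∃ x y, (g : GL (Fin 3) F) = typeAMat (φ : F →+* F) x y := fun g =>
    (mem_typeA_iff _).1 g.2
  choose gx gy hgxy using hent
  have hgmul : ∀ g h : M, gx (g * h) = gx g + gx h ∧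
      gy (g * h) = gy g + gy h + φ (gx g) * gx h := by
    intro g h
    refine typeAMat_inj (φ := (φ : F →+* F)) ((hgxy (g * h)).symm.trans ?_)
    rw [Subgroup.coe_mul, hgxy g, hgxy h, typeAMat_mul]
    rfl
  let g' : M →* Multiplicative F := MonoidHom.mk' (fun g => Multiplicative.ofAdd (gx g))
    fun g h => by rw [(hgmul g h).1]; rfl
  let f' : P →* Multiplicative F := MonoidHom.mk'
    (fun p => Multiplicative.ofAdd (σ (A.symm (Additive.ofMul (QuotientGroup.mk' Z p)))))
    fun p r => by rw [map_mul, ofMul_mul, map_add, map_add]; rfl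
  have hfker : ∀ p, p ∈ f'.ker ↔ p ∈ Z := by
    intro p
    rw [MonoidHom.mem_ker]
    show Multiplicative.ofAdd _ = Multiplicative.ofAdd 0 ↔ _
    rw [Multiplicative.ofAdd.injective.eq_iff, map_eq_zero_iff σ σ.injective, map_eq_zero_iff _ A.symm.injective]
    exact ⟨fun h => (QuotientGroup.eq_one_iff p).1 h,
      fun h => congrArg Additive.ofMul ((QuotientGroup.eq_one_iff p).2 h)⟩
  have hmk0 : ∀ g : M, g ∈ g'.ker ↔ gx g = 0 := fun g => by
    rw [MonoidHom.mem_ker]
    exact ⟨fun h => Multiplicative.ofAdd.injective h, fun h => congrArg Multiplicative.ofAdd h⟩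
  have hgmk : ∀ x y, ∃ g : M, gx g = x ∧ gy g = y := by
    intro x y
    refine ⟨⟨_, (mem_typeA_iff _).2 ⟨x, y, rfl⟩⟩, ?_⟩
    exact typeAMat_inj (hgxy ⟨_, (mem_typeA_iff _).2 ⟨x, y, rfl⟩⟩).symm
  have hgext : ∀ g h : M, gx g = gx h → gy g = gy h → g = h := fun g h h1 h2 =>
    Subtype.ext (by rw [hgxy g, hgxy h, h1, h2])
  choose mk hmkx hmky using hgmk
  let e : f'.ker ≃* g'.ker :=
    { toFun := fun z => ⟨mk 0 (B.symm (Additive.ofMul ⟨z, (hfker z).1 z.2⟩)), (hmk0 _).2 (hmkx 0 _)⟩
      invFun := fun g => ⟨(B (gy g)).toMul, (hfker _).2 (B (gy g)).toMul.2⟩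
      left_inv := fun z => Subtype.ext (by
        show ((B (gy (mk 0 _))).toMul : P) = z
        rw [hmky, B.apply_symm_apply]; rfl)
      right_inv := fun g => Subtype.ext (hgext _ _ ((hmkx 0 _).trans ((hmk0 g).1 g.2).symm) (by
        rw [hmky]
        show B.symm (Additive.ofMul (B (gy g)).toMul) = gy g
        rw [ofMul_toMul, B.symm_apply_apply]))
      map_mul' := fun z z' => by
        apply Subtype.ext
        show mk 0 _ = mk 0 _ * mk 0 _
        refine hgext _ _ ?_ ?_
        · simp only [(hgmul _ _).1, hmkx, add_zero]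
        · simp only [(hgmul _ _).2, hmky, hmkx, map_zero, zero_mul, add_zero]
          rw [← map_add]
          congr 1 }
  refine mulEquiv_of_sq f' g' (fun v => ?_) (fun v => ⟨mk v.toAdd 0, congrArg Multiplicative.ofAdd (hmkx _ _)⟩)
    (fun v => by
      show Multiplicative.ofAdd (v.toAdd + v.toAdd) = 1
      rw [CharTwo.add_self_eq_zero]; rfl)
    (fun p hp => (hfker p).1 hp) (fun g hg => ?_) e (fun z hz => hS.center_sq z ((hfker z).1 hz)) ?_
  · obtain ⟨p, hp⟩ := hlift (σ.symm v.toAdd)
    refine ⟨p, ?_⟩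
    show Multiplicative.ofAdd (σ (A.symm (Additive.ofMul (QuotientGroup.mk' Z p)))) = v
    rw [← hp, A.symm_apply_apply, σ.apply_symm_apply]
    rfl
  · rw [Subgroup.mem_center_iff]
    intro h
    refine hgext _ _ (by rw [(hgmul _ _).1, (hgmul _ _).1, add_comm]) ?_
    rw [(hgmul _ _).2, (hgmul _ _).2, (hmk0 g).1 hg, map_zero, zero_mul, mul_zero]
    ring
  · intro p g hpg h
    have hx : σ (A.symm (Additive.ofMul (QuotientGroup.mk' Z p))) = gx g := Multiplicative.ofAdd.injective hpg
    have hval : B.symm (Additive.ofMul ⟨p * p, (hfker _).1 h⟩) = φ (gx g) * gx g := by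
      rw [← hx, mul_comm, ← hqφ]
      show _ = B.symm (Q (A (A.symm _)))
      rw [A.apply_symm_apply]
      congr 1
      exact Additive.toMul.injective (Subtype.ext (hQmk p).symm)
    refine congrArg Subtype.val (?_ : mk 0 (B.symm (Additive.ofMul ⟨p * p, (hfker _).1 h⟩)) = g * g) |>.trans ?_ |> fun hh => Subtype.ext hh
    · refine hgext _ _ ?_ ?_
      · rw [hmkx, (hgmul _ _).1, CharTwo.add_self_eq_zero]
      · rw [hmky, (hgmul _ _).2, hval, CharTwo.add_self_eq_zero, zero_add]
    · rfl

end Setting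

end CfsgLib.SuzukiTwoGroup
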