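import Cfsg.Agent.SuzukiTwoGroup.ClassTwo

/-!
Higman: the order of a Suzuki 2-group is `q²` or `q³`, `q` the order of the centre.

With `lam` a non-trivial sign character of the centre, the sum of `lam (x²)` over `P / Z(P)` is computed
from the transitivity of `K`, and its square is zero or a power of two.
-/

set_option autoImplicit false
set_option linter.unusedSectionVars false
set_option linter.style.haveILetI false

namespace CfsgLib.SuzukiTwoGroup

open scoped commutatorElement
open Finset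

/-- The square of a quadratic Gauss sum over an abelian 2-group is zero or a power of two. -/
theorem gauss_sum_sq {V : Type*} [CommGroup V] [Fintype V] (hV : IsPGroup 2 V) (s : V → ℤ)
    (b : V → V → ℤ) (hs : ∀ v, s v * s v = 1) (hb : ∀ v w, s (v * w) = s v * s w * b v w)
    (hbm : ∀ v v' w, b (v * v') w = b v w * b v' w) :
    (∑ v, s v) * (∑ v, s v) = 0 ∨ ∃ l : ℕ, (∑ v, s v) * (∑ v, s v) = 2 ^ l := by
  classical
  haveI : Fact (Nat.Prime 2) := ⟨Nat.prime_two⟩
  have hb1 : ∀ w, b 1 w = s 1 := by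
    intro w
    have := hb 1 w
    rw [one_mul] at this
    calc b 1 w = s 1 * s 1 * (s w * s w) * b 1 w := by rw [hs, hs]; ring
      _ = s 1 * s w * (s 1 * s w * b 1 w) := by ring
      _ = s 1 * (s w * s w) := by rw [← this]; ring
      _ = s 1 := by rw [hs, mul_one]
  have hbs : ∀ v w, b v w = b w v := by
    intro v w
    have := hb v w
    rw [mul_comm, hb w v] at this
    calc b v w = s v * s v * (s w * s w) * b v w := by rw [hs, hs]; ring
      _ = s v * s w * (s v * s w * b v w) := by ring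
      _ = s v * s w * (s w * s v * b w v) := by rw [this]
      _ = s v * s v * (s w * s w) * b w v := by ring
      _ = b w v := by rw [hs, hs]; ring
  have hS : (∑ v, s v) * (∑ v, s v) = ∑ w, s w * ∑ v, b v w := by
    calc (∑ v, s v) * (∑ v, s v) = ∑ v, ∑ w, s v * s (v * w) := by
          rw [Finset.sum_mul]
          refine Finset.sum_congr rfl fun v _ => ?_
          rw [← Finset.mul_sum]
          congr 1
          exact (Fintype.sum_equiv (Equiv.mulLeft v) _ _ fun w => rfl).symm
      _ = ∑ v, ∑ w, s w * b v w := Finset.sum_congr rfl fun v _ => Finset.sum_congr rfl fun w _ => by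
          rw [hb, ← mul_assoc, ← mul_assoc, hs, one_mul]
      _ = _ := by rw [Finset.sum_comm]; exact Finset.sum_congr rfl fun w _ => (Finset.mul_sum _ _ _).symm
  have hone : s 1 = 1 ∨ s 1 = -1 := mul_self_eq_one_iff.1 (hs 1)
  have hb2 : ∀ v w, b v w = s 1 * b v w * b 1 w := fun v w => by
    rw [hb1, mul_comm (s 1), mul_assoc, hs, mul_one]
  -- `b · w` times `s 1` is a character
  have hχ : ∀ w, (∑ v, b v w) = 0 ∨ ∀ v, b v w = s 1 := by
    intro w
    by_cases h : ∀ v, b v w = s 1
    · exact Or.inr h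
    refine Or.inl ?_
    push Not at h
    obtain ⟨v₀, hv₀⟩ := h
    have h1 : ∑ v, b v w = b v₀ w * ∑ v, b v w := by
      conv_lhs => rw [← Fintype.sum_equiv (Equiv.mulLeft v₀) (fun v => b (v₀ * v) w) (fun v => b v w)
        fun v => rfl]
      rw [Finset.mul_sum]
      exact Finset.sum_congr rfl fun v _ => hbm v₀ v w
    have h11 : s 1 = 1 := by
      have h := hbm 1 1 1
      rw [one_mul, hb1] at h
      rcases hone with h' | h'
      · exact h'
      · rw [h'] at h; norm_num at h
    by_contra hne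
    exact hv₀ (((mul_eq_right₀ hne).1 h1.symm).trans h11.symm)
  -- the radical
  have h11 : s 1 = 1 := by
    have h := hbm 1 1 1
    rw [one_mul, hb1] at h
    rcases hone with h' | h'
    · exact h'
    · rw [h'] at h; norm_num at h
  let R : Subgroup V :=
    { carrier := {w | ∀ v, b v w = 1}
      one_mem' := fun v => by rw [hbs, hb1, h11]
      mul_mem' := fun {x y} hx hy v => by rw [hbs, hbm, hbs x, hbs y, hx, hy, one_mul]
      inv_mem' := fun {x} hx v => by
        have h := hbm x x⁻¹ v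
        rw [mul_inv_cancel, hb1, h11, hbs x, hx v, one_mul, hbs x⁻¹] at h
        exact h.symm }
  have hsum : (∑ w, s w * ∑ v, b v w) = (Fintype.card V : ℤ) * ∑ w : R, s w := by
    rw [← Finset.sum_filter_add_sum_filter_not univ (fun w => w ∈ R), Finset.mul_sum]
    have h0 : ∑ w ∈ univ.filter (fun w => w ∉ R), s w * ∑ v, b v w = 0 := by
      refine Finset.sum_eq_zero fun w hw => ?_
      rcases hχ w with h | h
      · rw [h, mul_zero]
      · exact absurd (fun v => (h v).trans h11) (Finset.mem_filter.1 hw).2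
    rw [h0, add_zero, ← Finset.sum_subtype (univ.filter (fun w => w ∈ R)) (fun w => by simp)
      (fun w => (Fintype.card V : ℤ) * s w)]
    refine Finset.sum_congr rfl fun w hw => ?_
    rw [Finset.sum_congr rfl fun v _ => (Finset.mem_filter.1 hw).2 v]
    simp [mul_comm]
  have hR : (∑ w : R, s w) = 0 ∨ (∑ w : R, s w) = Nat.card R := by
    by_cases h : ∀ w : R, s w = 1
    · exact Or.inr (by simp [h, Nat.card_eq_fintype_card])
    push Not at h
    obtain ⟨w₀, hw₀⟩ := h
    refine Or.inl ?_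
    have h1 : (∑ w : R, s w) = s w₀ * ∑ w : R, s w := by
      conv_lhs => rw [← Fintype.sum_equiv (Equiv.mulLeft w₀) (fun w : R => s (w₀ * w : R))
        (fun w : R => s w) fun w => rfl]
      rw [Finset.mul_sum]
      refine Finset.sum_congr rfl fun w _ => ?_
      rw [Subgroup.coe_mul, hb, w.2 w₀, mul_one]
    by_contra hne
    exact hw₀ ((mul_eq_right₀ hne).1 h1.symm)
  rw [hS, hsum]
  rcases hR with h | h
  · exact Or.inl (by rw [h, mul_zero])
  · obtain ⟨i, hi⟩ := IsPGroup.iff_card.1 hV
    obtain ⟨j, hj⟩ := IsPGroup.iff_card.1 (hV.to_subgroup R)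
    refine Or.inr ⟨i + j, ?_⟩
    rw [h, hj, ← Nat.card_eq_fintype_card, hi, pow_add]
    push_cast
    ring

/-- The only powers of two `2^d` with `(2^d - 1) = (2^n - 1) c` and `(1 - c)²` zero or a power of two. -/
theorem arith {n d : ℕ} (hn : 2 ≤ n) (hd : 1 ≤ d) (c : ℕ) (hc : 2 ^ d = (2 ^ n - 1) * c + 1)
    (hsq : (1 - (c : ℤ)) * (1 - c) = 0 ∨ ∃ l : ℕ, (1 - (c : ℤ)) * (1 - c) = 2 ^ l) :
    d = n ∨ d = 2 * n := by
  have hdvd : n ∣ d := by
    have h1 : 2 ^ n - 1 ∣ 2 ^ d - 1 := ⟨c, by omega⟩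
    have h2 := Nat.gcd_eq_left h1
    rw [Nat.pow_sub_one_gcd_pow_sub_one] at h2
    have h3 : Nat.gcd n d = n := by
      have := Nat.two_pow_pos (Nat.gcd n d)
      have := Nat.two_pow_pos n
      exact Nat.pow_right_injective (le_refl 2) (show 2 ^ Nat.gcd n d = 2 ^ n by omega)
    exact h3 ▸ Nat.gcd_dvd_right n d
  obtain ⟨m, rfl⟩ := hdvd
  rcases m with _ | _ | _ | m
  · simp at hd
  · left; ring
  · right; ring
  exfalso
  set Q := 2 ^ n with hQ
  have hQ4 : 4 ≤ Q := by
    calc 4 = 2 ^ 2 := rfl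
      _ ≤ _ := Nat.pow_le_pow_right (by norm_num) hn
  have hgeo : ∀ i, (Q - 1) * (∑ j ∈ range i, Q ^ j) + 1 = Q ^ i := by
    intro i
    induction i with
    | zero => simp
    | succ i ih =>
      rw [Finset.sum_range_succ, mul_add, add_right_comm, ih, pow_succ', add_comm]
      calc (Q - 1) * Q ^ i + Q ^ i = (Q - 1 + 1) * Q ^ i := by ring
        _ = _ := by rw [Nat.sub_add_cancel (by omega)]
  set T := ∑ j ∈ range (m + 2), Q ^ j with hT
  have hcT : c = 1 + Q * T := by
    have h1 : (Q - 1) * c + 1 = Q ^ (m + 3) := by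
      rw [hQ, ← pow_mul]; exact hc.symm
    have h2 := hgeo (m + 3)
    have h3 : c = ∑ j ∈ range (m + 3), Q ^ j :=
      Nat.eq_of_mul_eq_mul_left (show 0 < Q - 1 by omega) (by omega)
    rw [h3, Finset.sum_range_succ', pow_zero, add_comm]
    simp only [hT, Finset.mul_sum, pow_succ']
  have hsub : (1 - (c : ℤ)) * (1 - c) = ((Q * T * (Q * T) : ℕ) : ℤ) := by
    rw [hcT]; push_cast; ring
  have hTpos : Q + 1 ≤ T := by
    rw [hT, Finset.sum_range_succ', pow_zero]
    have : Q ≤ ∑ j ∈ range (m + 1), Q ^ (j + 1) :=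
      le_trans (by rw [zero_add, pow_one]) (Finset.single_le_sum (f := fun j => Q ^ (j + 1))
        (fun j _ => Nat.zero_le _) (Finset.mem_range.2 (Nat.succ_pos m)))
    omega
  have hTodd : ¬ 2 ∣ T := by
    rw [hT, Finset.sum_range_succ', pow_zero]
    have : 2 ∣ ∑ j ∈ range (m + 1), Q ^ (j + 1) := Finset.dvd_sum fun j _ =>
      dvd_pow (dvd_pow_self 2 (by omega : n ≠ 0)) (Nat.succ_ne_zero j)
    omega
  rw [hsub] at hsq
  rcases hsq with h | ⟨l, h⟩
  · have h' : Q * T * (Q * T) = 0 := by exact_mod_cast h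
    simp only [mul_eq_zero] at h'
    omega
  · have h' : Q * T * (Q * T) = 2 ^ l := by exact_mod_cast h
    obtain ⟨i, -, hi⟩ := (Nat.dvd_prime_pow Nat.prime_two).1
      (show T ∣ 2 ^ l from ⟨Q * T * Q, by rw [← h']; ring⟩)
    rcases i with _ | i
    · rw [hi, pow_zero] at hTpos; omega
    · exact hTodd ⟨2 ^ i, by rw [hi, pow_succ']⟩

namespace Setting

variable {P : Type*} [Group P] {K : Subgroup (MulAut P)} (hS : Setting K)
include hS

theorem card_eq : Nat.card P = Nat.card (Subgroup.center P) ^ 2 ∨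
    Nat.card P = Nat.card (Subgroup.center P) ^ 3 := by
  classical
  haveI := hS.finite
  haveI : Fact (Nat.Prime 2) := ⟨Nat.prime_two⟩
  set Z := Subgroup.center P with hZ
  haveI := Fintype.ofFinite P
  haveI := Fintype.ofFinite (P ⧸ Z)
  haveI := Fintype.ofFinite K
  haveI : Fintype Z := Fintype.ofFinite Z
  have hcm : ∀ {c : P}, c ∈ Z → ∀ g : P, c * g = g * c := fun hc g => (Subgroup.mem_center_iff.1 hc g).symm
  letI : CommGroup (P ⧸ Z) := { (inferInstance : Group (P ⧸ Z)) with
    mul_comm := fun x y => by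
      obtain ⟨x, rfl⟩ := QuotientGroup.mk'_surjective Z x
      obtain ⟨y, rfl⟩ := QuotientGroup.mk'_surjective Z y
      rw [← commutatorElement_eq_one_iff_mul_comm, ← map_commutatorElement]
      exact (QuotientGroup.eq_one_iff _).2 (hS.commutator_mem_center x y) }
  -- the order of the centre
  obtain ⟨n, hn⟩ := IsPGroup.iff_card.1 (hS.two.to_subgroup Z)
  obtain ⟨x₀, y₀, hxy, hx1, hx2, hy1, hy2⟩ := hS.exists_two
  have hn2 : 2 ≤ n := by
    by_contra h
    have hcard : Nat.card Z ≤ 2 :=
      hn ▸ (Nat.pow_le_pow_right (by norm_num) (show n ≤ 1 by omega)).trans (le_of_eq (pow_one 2))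
    have h3 : 3 ≤ Nat.card Z := by
      have hs : ({1, ⟨x₀, hS.mem_center hx2⟩, ⟨y₀, hS.mem_center hy2⟩} : Finset Z).card = 3 :=
        Finset.card_eq_three.2 ⟨_, _, _, fun e => hx1 (congrArg Subtype.val e).symm,
          fun e => hy1 (congrArg Subtype.val e).symm, fun e => hxy (congrArg Subtype.val e), rfl⟩
      rw [Nat.card_eq_fintype_card, ← hs]
      exact Finset.card_le_univ _
    omega
  -- a sign character
  obtain ⟨H, hH⟩ := Sylow.exists_subgroup_card_pow_prime 2 (G := Z) (n := n - 1)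
    (hn ▸ pow_dvd_pow 2 (Nat.sub_le n 1))
  have hHi : H.index = 2 := by
    have h := H.card_mul_index
    rw [hn, hH, show 2 ^ n = 2 ^ (n - 1) * 2 by rw [← pow_succ]; congr 1; omega] at h
    exact Nat.eq_of_mul_eq_mul_left (Nat.two_pow_pos _) h
  let lam : Z → ℤ := fun z => if z ∈ H then 1 else -1
  have hlam : ∀ z w, lam (z * w) = lam z * lam w := by
    intro z w
    simp only [lam, Subgroup.mul_mem_iff_of_index_two hHi]
    by_cases hz : z ∈ H <;> by_cases hw : w ∈ H <;> simp [hz, hw]
  have hlam2 : ∀ z, lam z * lam z = 1 := fun z => by simp only [lam]; split_ifs <;> rfl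
  have hlam1 : lam 1 = 1 := if_pos (one_mem _)
  have hlam0 : ∑ z, lam z = 0 := by
    obtain ⟨w, hw⟩ : ∃ w, w ∉ H := by
      by_contra h
      push Not at h
      rw [show H = ⊤ from eq_top_iff.2 fun z _ => h z, Subgroup.index_top] at hHi
      omega
    have h1 : ∑ z, lam z = lam w * ∑ z, lam z := by
      conv_lhs => rw [← Fintype.sum_equiv (Equiv.mulLeft w) (fun z => lam (w * z)) lam fun z => rfl]
      rw [Finset.mul_sum]
      exact Finset.sum_congr rfl fun z _ => hlam w z
    have hw' : lam w = -1 := if_neg hw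
    rw [hw'] at h1
    omega
  -- the squaring map
  let Q : P ⧸ Z → Z := fun v => ⟨v.out * v.out, hS.sq_mem_center _⟩
  have hQmk : ∀ x : P, (Q (x : P ⧸ Z) : P) = x * x := by
    intro x
    obtain ⟨⟨c, hc⟩, hc'⟩ := QuotientGroup.mk_out_eq_mul Z x
    show ((x : P ⧸ Z).out) * (x : P ⧸ Z).out = x * x
    rw [hc']
    calc x * c * (x * c) = x * (c * x) * c := by group
      _ = x * x * (c * c) := by rw [hcm hc x]; group
      _ = x * x := by rw [hS.center_sq c hc, mul_one]
  let Bc : P ⧸ Z → P ⧸ Z → Z := fun v w => ⟨⁅v.out, w.out⁆, hS.commutator_mem_center _ _⟩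
  have hQmul : ∀ v w, Q (v * w) = Q v * Q w * Bc v w := by
    intro v w
    apply Subtype.ext
    have h : ((v.out * w.out : P) : P ⧸ Z) = v * w := by
      rw [QuotientGroup.mk_mul, QuotientGroup.out_eq', QuotientGroup.out_eq']
    rw [← h, hQmk, Subgroup.coe_mul, Subgroup.coe_mul]
    show _ = v.out * v.out * (w.out * w.out) * ⁅v.out, w.out⁆
    generalize v.out = x
    generalize w.out = y
    have hyx : ⁅y, x⁆ = ⁅x, y⁆ := by
      rw [← commutatorElement_inv x y]
      exact inv_eq_of_mul_eq_one_right (hS.center_sq _ (hS.commutator_mem_center x y))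
    calc x * y * (x * y) = x * (⁅y, x⁆ * (x * y)) * y := by simp only [commutatorElement_def]; group
      _ = ⁅y, x⁆ * (x * (x * y) * y) := by
          rw [← mul_assoc x, ← hcm (hS.commutator_mem_center y x) x]; group
      _ = _ := by rw [hcm (hS.commutator_mem_center y x), hyx]; group
  have hBmul : ∀ v v' w, Bc (v * v') w = Bc v w * Bc v' w := by
    intro v v' w
    apply Subtype.ext
    show ⁅(v * v').out, w.out⁆ = ⁅v.out, w.out⁆ * ⁅v'.out, w.out⁆
    have h : ((v.out * v'.out : P) : P ⧸ Z) = v * v' := by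
      rw [QuotientGroup.mk_mul, QuotientGroup.out_eq', QuotientGroup.out_eq']
    obtain ⟨⟨c, hc⟩, hc'⟩ := QuotientGroup.mk_out_eq_mul Z (v.out * v'.out)
    rw [h] at hc'
    rw [hc']
    generalize v.out = x
    generalize v'.out = x'
    generalize w.out = y
    calc ⁅x * x' * c, y⁆ = x * x' * (c * y * c⁻¹) * x'⁻¹ * x⁻¹ * y⁻¹ := by
          simp only [commutatorElement_def]; group
      _ = x * ⁅x', y⁆ * (y * x⁻¹ * y⁻¹) := by
          rw [hcm hc y, mul_inv_cancel_right]; simp only [commutatorElement_def]; group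
      _ = ⁅x', y⁆ * ⁅x, y⁆ := by
          rw [← hcm (hS.commutator_mem_center x' y) x]; simp only [commutatorElement_def]; group
      _ = _ := hcm (hS.commutator_mem_center x' y) _
  -- the action of `K`
  have hkZ : ∀ (k : K), Z.map ((k : MulAut P) : P →* P) = Z := fun k =>
    Subgroup.characteristic_iff_map_eq.1 inferInstance _
  let act : K → P ⧸ Z → P ⧸ Z := fun k => QuotientGroup.congr Z Z (k : MulAut P) (hkZ k)
  let actZ : K → Z → Z := fun k z => ⟨(k : MulAut P) z, hS.act_center k z.2⟩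
  have hQk : ∀ k v, Q (act k v) = actZ k (Q v) := by
    intro k v
    induction v using QuotientGroup.induction_on with
    | H x =>
      apply Subtype.ext
      show (Q (((k : MulAut P) x : P) : P ⧸ Z) : P) = (k : MulAut P) (Q (x : P ⧸ Z) : P)
      rw [hQmk, hQmk, map_mul]
  let s : P ⧸ Z → ℤ := fun v => lam (Q v)
  -- orbit sums
  have horb : ∀ z : Z, z ≠ 1 → ∑ k : K, lam (actZ k z) = -1 := by
    intro z hz
    have hz1 : (z : P) ≠ 1 := fun e => hz (Subtype.ext e)
    have h : ∑ k : K, lam (actZ k z) = ∑ w ∈ univ.erase 1, lam w := by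
      refine Finset.sum_bij (fun k _ => actZ k z) (fun k _ => ?_) (fun k _ l _ e => ?_) (fun w hw => ?_)
        fun _ _ => rfl
      · simp only [Finset.mem_erase, Finset.mem_univ, and_true]
        intro e
        exact hz1 ((k : MulAut P).map_eq_one_iff.1 (congrArg Subtype.val e))
      · have hzz := hS.center_sq (z : P) z.2
        have hk1 : (k : MulAut P) (z : P) ≠ 1 := fun e' => hz1 ((k : MulAut P).map_eq_one_iff.1 e')
        exact (hS.regular (z : P) _ hz1 hzz hk1 (by rw [← map_mul, hzz, map_one])).unique rfl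
          (congrArg Subtype.val e).symm
      · simp only [Finset.mem_erase, Finset.mem_univ, and_true] at hw
        obtain ⟨k, hk, -⟩ := hS.regular (z : P) w hz1 (hS.center_sq _ z.2) (fun e => hw (Subtype.ext e))
          (hS.center_sq _ w.2)
        exact ⟨k, Finset.mem_univ _, Subtype.ext hk⟩
    rw [h, Finset.sum_erase_eq_sub (Finset.mem_univ _), hlam0, hlam1, zero_sub]
  have hKcard : (Fintype.card K : ℤ) = 2 ^ n - 1 := by
    have hx0 : (⟨x₀, hS.mem_center hx2⟩ : Z) ≠ 1 := fun e => hx1 (congrArg Subtype.val e)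
    have e : K ≃ {w : Z // w ≠ 1} := Equiv.ofBijective
      (fun k => ⟨actZ k ⟨x₀, hS.mem_center hx2⟩, fun e =>
        hx1 ((k : MulAut P).map_eq_one_iff.1 (congrArg Subtype.val e))⟩) (by
      constructor
      · intro k l e
        have e' : (k : MulAut P) x₀ = (l : MulAut P) x₀ :=
          congrArg Subtype.val (congrArg Subtype.val e)
        exact (hS.regular x₀ _ hx1 hx2 (fun e2 => hx1 ((k : MulAut P).map_eq_one_iff.1 e2))
          (by rw [← map_mul, hx2, map_one])).unique rfl e'.symm
      · rintro ⟨w, hw⟩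
        obtain ⟨k, hk, -⟩ := hS.regular x₀ w hx1 hx2 (fun e => hw (Subtype.ext e)) (hS.center_sq _ w.2)
        exact ⟨k, Subtype.ext (Subtype.ext hk)⟩)
    rw [Fintype.card_congr e, Fintype.card_subtype_compl, Fintype.card_subtype_eq,
      ← Nat.card_eq_fintype_card, hn]
    have := Nat.one_le_two_pow (n := n)
    push_cast [this]
    ring
  have hQ1 : ∀ v, v ≠ 1 → Q v ≠ 1 := by
    intro v hv e
    induction v using QuotientGroup.induction_on with
    | H x => exact hv ((QuotientGroup.eq_one_iff x).2 (hS.mem_center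
        ((hQmk x).symm.trans (congrArg Subtype.val e))))
  have hQone : Q 1 = 1 := Subtype.ext (by rw [← QuotientGroup.mk_one Z, hQmk, mul_one]; rfl)
  have hkey : ((2 : ℤ) ^ n - 1) * ∑ v, s v = (2 ^ n - 1) - (Fintype.card (P ⧸ Z) - 1) := by
    have h1 : ∀ k : K, ∑ v, s (act k v) = ∑ v, s v := fun k =>
      Fintype.sum_equiv (QuotientGroup.congr Z Z (k : MulAut P) (hkZ k)).toEquiv _ _ fun v => rfl
    calc ((2 : ℤ) ^ n - 1) * ∑ v, s v = ∑ k : K, ∑ v, s (act k v) := by
          rw [Finset.sum_congr rfl fun k _ => h1 k, Finset.sum_const, nsmul_eq_mul, Finset.card_univ,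
            hKcard]
      _ = ∑ v, ∑ k : K, lam (actZ k (Q v)) := by
          rw [Finset.sum_comm]
          exact Finset.sum_congr rfl fun v _ => Finset.sum_congr rfl fun k _ => congrArg lam (hQk k v)
      _ = (∑ k : K, lam (actZ k (Q 1))) + ∑ v ∈ univ.erase 1, ∑ k : K, lam (actZ k (Q v)) :=
          (Finset.add_sum_erase _ _ (Finset.mem_univ _)).symm
      _ = _ := by
          rw [Finset.sum_congr rfl fun v hv => horb _ (hQ1 v (Finset.mem_erase.1 hv).1), hQone]
          have : ∀ k : K, actZ k 1 = 1 := fun k => Subtype.ext (map_one _)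
          simp only [this, hlam1, Finset.sum_const, Finset.card_univ, nsmul_eq_mul, mul_one,
            Finset.card_erase_of_mem (Finset.mem_univ (1 : P ⧸ Z)), hKcard]
          rw [Nat.cast_sub Fintype.card_pos]
          push_cast
          ring
  obtain ⟨d, hd⟩ := IsPGroup.iff_card.1 (hS.two.to_quotient Z)
  rw [Nat.card_eq_fintype_card] at hd
  have hd1 : 1 ≤ d := by
    by_contra h
    obtain ⟨x, y, hne⟩ := hS.not_comm
    have : Fintype.card (P ⧸ Z) = 1 := by rw [hd, show d = 0 by omega, pow_zero]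
    haveI := (Fintype.card_le_one_iff_subsingleton.1 this.le)
    have hx : x ∈ Z := (QuotientGroup.eq_one_iff x).1 (Subsingleton.elim _ _)
    exact hne (hcm hx y)
  -- the sum is `1 - c`
  set S := ∑ v, s v with hSdef
  have hc0 : 0 ≤ 1 - S := by
    have hpos : (0 : ℤ) < 2 ^ n - 1 := by
      rw [← hKcard]; exact_mod_cast Fintype.card_pos
    have : ((2 : ℤ) ^ n - 1) * (1 - S) = Fintype.card (P ⧸ Z) - 1 := by rw [mul_sub, hkey]; ring
    have h2 : (0 : ℤ) ≤ (Fintype.card (P ⧸ Z) : ℤ) - 1 := by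
      have := Fintype.card_pos (α := P ⧸ Z); omega
    exact (mul_nonneg_iff_of_pos_left hpos).1 (this ▸ h2)
  obtain ⟨c, hc⟩ := Int.eq_ofNat_of_zero_le hc0
  have hcard : 2 ^ d = (2 ^ n - 1) * c + 1 := by
    have h : ((2 : ℤ) ^ n - 1) * (1 - S) + 1 = Fintype.card (P ⧸ Z) := by rw [mul_sub, hkey]; ring
    rw [hc, hd] at h
    have h' : (((2 ^ n - 1) * c + 1 : ℕ) : ℤ) = ((2 ^ d : ℕ) : ℤ) := by
      push_cast [Nat.one_le_two_pow]
      push_cast at h
      exact h
    exact_mod_cast h'.symm
  have hgauss := gauss_sum_sq (hS.two.to_quotient Z) s (fun v w => lam (Bc v w))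
    (fun v => hlam2 _) (fun v w => by show lam (Q (v * w)) = _; rw [hQmul, hlam, hlam])
    (fun v v' w => by rw [hBmul, hlam])
  rw [← hSdef, show S = 1 - (c : ℤ) by rw [← hc]; ring] at hgauss
  have hP : Nat.card P = 2 ^ d * 2 ^ n := by
    rw [Subgroup.card_eq_card_quotient_mul_card_subgroup Z, hn, Nat.card_eq_fintype_card, hd]
  rcases arith hn2 hd1 c hcard hgauss with h | h
  · left; rw [hP, hn, h]; ring
  · right; rw [hP, hn, h]; ring

theorem exponent_eq : Monoid.exponent P = 4 := by
  haveI := hS.finite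
  have hdvd : Monoid.exponent P ∣ 4 := Monoid.exponent_dvd_of_forall_pow_eq_one fun x => by
    rw [show 4 = 2 * 2 from rfl, pow_mul, pow_two, pow_two]
    exact hS.center_sq _ (hS.sq_mem_center x)
  obtain ⟨i, hi, he⟩ := (Nat.dvd_prime_pow Nat.prime_two).1 (show Monoid.exponent P ∣ 2 ^ 2 from hdvd)
  rcases i with _ | _ | i
  rotate_left 2
  · rw [he, show i = 0 by omega]; rfl
  all_goals
    exfalso
    obtain ⟨x, y, hne⟩ := hS.not_comm
    have hsq : ∀ g : P, g * g = 1 := fun g => by
      rw [← pow_two]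
      refine orderOf_dvd_iff_pow_eq_one.1 ((Monoid.order_dvd_exponent g).trans ?_)
      rw [he]; norm_num
    exact hne ((Subgroup.mem_center_iff.1 (hS.mem_center (hsq x)) y).symm)

end Setting

end CfsgLib.SuzukiTwoGroup
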