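import Cfsg.Agent.FieldMaps.CharTwo
import Cfsg.Agent.SuzukiTwoGroup.Center

/-!
A commutative group transitive on the non-zero vectors of an elementary abelian 2-group makes it a field,
and bilinear identities between field automorphisms.
-/

set_option autoImplicit false
set_option linter.unusedSectionVars false
set_option linter.style.haveILetI false

namespace CfsgLib.SuzukiTwoGroup

universe v

theorem exists_field {V : Type v} [AddCommGroup V] [Finite V] (h2 : ∀ x : V, x + x = 0)
    {K : Type*} [Group K] (hK : ∀ x y : K, x * y = y * x) (ρ : K →* AddMonoid.End V)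
    (htr : ∀ x y : V, x ≠ 0 → y ≠ 0 → ∃ k, ρ k x = y) {m : V} (hm : m ≠ 0) :
    ∃ (F : Type v) (_ : Field F) (_ : Fintype F) (_ : CharP F 2) (Φ : F ≃+ V) (χ : K →* F),
      Φ 1 = m ∧ (∀ k x, Φ (χ k * x) = ρ k (Φ x)) ∧ ∀ x : F, x ≠ 0 → ∃ k, χ k = x := by
  classical
  set R := Subring.closure (Set.range ρ) with hR
  have hcomm : ∀ x ∈ Set.range ρ, ∀ y ∈ Set.range ρ, x * y = y * x := by
    rintro _ ⟨a, rfl⟩ _ ⟨b, rfl⟩
    rw [← map_mul, hK, map_mul]
  letI : CommRing R := { (inferInstance : Ring R) with
    mul_comm := (Subring.isMulCommutative_closure hcomm).is_comm.comm }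
  let ev : R →+ V :=
    { toFun := fun x => (x : AddMonoid.End V) m, map_zero' := rfl, map_add' := fun _ _ => rfl }
  have hρR : ∀ k, ρ k ∈ R := fun k => Subring.subset_closure ⟨k, rfl⟩
  have hinj : Function.Injective ev := by
    intro x y hxy
    refine Subtype.ext (DFunLike.ext _ _ fun v => ?_)
    by_cases hv : v = 0
    · rw [hv, map_zero, map_zero]
    · obtain ⟨k, rfl⟩ := htr m v hm hv
      have hx := congrArg (fun e : R => (e : AddMonoid.End V) m) (mul_comm x ⟨ρ k, hρR k⟩)
      have hy := congrArg (fun e : R => (e : AddMonoid.End V) m) (mul_comm y ⟨ρ k, hρR k⟩)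
      show (x : AddMonoid.End V) (ρ k m) = (y : AddMonoid.End V) (ρ k m)
      refine hx.trans (Eq.trans ?_ hy.symm)
      exact congrArg (ρ k) hxy
  have hsurj : Function.Surjective ev := by
    intro v
    by_cases hv : v = 0
    · exact ⟨0, hv ▸ rfl⟩
    · obtain ⟨k, rfl⟩ := htr m v hm hv
      exact ⟨⟨ρ k, hρR k⟩, rfl⟩
  haveI : Finite R := Finite.of_injective ev hinj
  haveI : Nontrivial R := ⟨⟨1, 0, fun h => hm (congrArg ev h)⟩⟩
  have hfield : IsField R := by
    refine ⟨exists_pair_ne R, mul_comm, fun {x} hx => ?_⟩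
    have hv : ev x ≠ 0 := fun h => hx (hinj (h.trans (map_zero ev).symm))
    obtain ⟨k, hk⟩ := htr m _ hm hv
    have hxk : x = ⟨ρ k, hρR k⟩ := hinj hk.symm
    refine ⟨⟨ρ k⁻¹, hρR _⟩, ?_⟩
    rw [hxk]
    apply Subtype.ext
    show ρ k * ρ k⁻¹ = 1
    rw [← map_mul, mul_inv_cancel, map_one]
  letI : Field R := hfield.toField
  haveI : CharP R 2 := by
    refine CharTwo.of_one_ne_zero_of_two_eq_zero one_ne_zero ?_
    rw [← one_add_one_eq_two]
    exact hinj ((h2 m).trans (map_zero ev).symm)
  refine ⟨R, inferInstance, Fintype.ofFinite R, inferInstance, AddEquiv.ofBijective ev ⟨hinj, hsurj⟩,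
    { toFun := fun k => ⟨ρ k, hρR k⟩
      map_one' := Subtype.ext (map_one ρ)
      map_mul' := fun k l => Subtype.ext (map_mul ρ k l) }, rfl, fun k x => rfl, ?_⟩
  intro x hx
  obtain ⟨k, hk⟩ := htr m (ev x) hm (fun h => hx (hinj (h.trans (map_zero ev).symm)))
  exact ⟨k, hinj hk⟩

variable {F : Type v} [Field F] [Fintype F] [CharP F 2]

/-- A product of two automorphisms determines the pair. -/
theorem pair_unique {σ τ σ' τ' : F ≃+* F} (h : ∀ x : F, σ x * τ x = σ' x * τ' x) :
    (σ = σ' ∧ τ = τ') ∨ (σ = τ' ∧ τ = σ') := by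
  classical
  haveI := FieldMaps.finite_ringAut (F := F)
  haveI : Fintype (F ≃+* F) := Fintype.ofFinite _
  have hcancel : ∀ {π ρ : F ≃+* F}, (∀ x, π x * π x = ρ x * ρ x) → π = ρ := fun {π ρ} h =>
    RingEquiv.ext fun x => frobenius_inj F 2 (by simp only [frobenius_def, pow_two]; exact h x)
  have hpolar : ∀ x y : F, σ x * τ y + τ x * σ y = σ' x * τ' y + τ' x * σ' y := by
    intro x y
    have := h (x + y)
    simp only [map_add] at this
    linear_combination this - h x - h y
  -- coefficient of `ρ` in `y ↦ polar 1 y`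
  have hcoef : ∀ ρ : F ≃+* F, ((if τ = ρ then 1 else 0) + if σ = ρ then 1 else (0 : F)) =
      (if τ' = ρ then 1 else 0) + if σ' = ρ then 1 else 0 := by
    intro ρ
    have e : (FieldMaps.combine fun π => (if τ = π then 1 else 0) + if σ = π then 1 else (0 : F)) =
        FieldMaps.combine fun π => (if τ' = π then 1 else 0) + if σ' = π then 1 else (0 : F) := by
      ext y
      simp only [FieldMaps.combine_apply, add_mul, ite_mul, one_mul, zero_mul, Finset.sum_add_distrib,
        Finset.sum_ite_eq, Finset.mem_univ, if_true]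
      simpa using hpolar 1 y
    exact congrFun (FieldMaps.combine_bijective.1 e) ρ
  by_cases hst : σ = τ
  · subst hst
    by_cases hst' : σ' = τ'
    · subst hst'
      exact Or.inl ⟨hcancel h, hcancel h⟩
    · exfalso
      have := hcoef σ'
      rw [if_pos rfl, if_neg (Ne.symm hst'), zero_add] at this
      split_ifs at this with hc
      · rw [CharTwo.add_self_eq_zero] at this; exact zero_ne_one this
      · rw [zero_add] at this; exact zero_ne_one this
  · have := hcoef σ
    rw [if_neg (Ne.symm hst), if_pos rfl, zero_add] at this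
    split_ifs at this with h1 h2 h2
    · rw [CharTwo.add_self_eq_zero] at this; exact absurd this one_ne_zero
    · refine Or.inr ⟨h1.symm, RingEquiv.ext fun x => ?_⟩
      by_cases hx : x = 0
      · rw [hx, map_zero, map_zero]
      · have := h x
        rw [h1, mul_comm (σ' x)] at this
        exact mul_left_cancel₀ (by simpa using hx) this
    · refine Or.inl ⟨h2.symm, RingEquiv.ext fun x => ?_⟩
      by_cases hx : x = 0
      · rw [hx, map_zero, map_zero]
      · have := h x
        rw [h2] at this
        exact mul_left_cancel₀ (by simpa using hx) this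
    · rw [add_zero] at this; exact absurd this one_ne_zero

/-- Distinct multiplicative maps are independent. -/
theorem coeff_eq_zero {ι : Type*} (s : Finset ι) (m : ι → F →* F) (c : ι → F)
    (h : ∀ x : F, ∑ i ∈ s, c i * m i x = 0) (f : F →* F) [DecidableEq (F →* F)] :
    ∑ i ∈ s with m i = f, c i = 0 := by
  classical
  have hli := linearIndependent_iff'.1 (linearIndependent_monoidHom F F) (insert f (s.image m))
    (fun g => ∑ i ∈ s with m i = g, c i) ?_ f (Finset.mem_insert_self _ _)
  · convert hli using 2
  · funext x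
    simp only [Finset.sum_apply, Pi.smul_apply, smul_eq_mul, Pi.zero_apply]
    calc ∑ g ∈ insert f (s.image m), (∑ i ∈ s with m i = g, c i) * g x
        = ∑ g ∈ insert f (s.image m), ∑ i ∈ s with m i = g, c i * m i x := by
          refine Finset.sum_congr rfl fun g _ => ?_
          rw [Finset.sum_mul]
          exact Finset.sum_congr rfl fun i hi => by rw [(Finset.mem_filter.1 hi).2]
      _ = ∑ i ∈ s, c i * m i x := Finset.sum_fiberwise_of_maps_to
          (fun i hi => Finset.mem_insert_of_mem (Finset.mem_image_of_mem m hi)) _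
      _ = 0 := h x

/-- The multiplicative map `x ↦ x / σ x`. -/
def eta (σ : F ≃+* F) : F →* F where
  toFun x := x / σ x
  map_one' := by simp
  map_mul' x y := by simp [mul_div_mul_comm]

theorem eta_apply (σ : F ≃+* F) (x : F) : eta σ x = x / σ x := rfl

/-- The maps `π ∘ eta σ`, `σ ≠ 1`, are pairwise different. -/
theorem eta_inj {π π' σ σ' : F ≃+* F} (hσ : σ ≠ RingEquiv.refl F)
    (h : ∀ x : F, π (eta σ x) = π' (eta σ' x)) : π = π' ∧ σ = σ' := by
  have h' : ∀ x : F, π x * (σ'.trans π') x = π' x * (σ.trans π) x := by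
    intro x
    by_cases hx : x = 0
    · simp [hx]
    have := h x
    simp only [eta_apply, map_div₀] at this
    simp only [RingEquiv.trans_apply]
    rwa [div_eq_div_iff (by simpa using hx) (by simpa using hx)] at this
  rcases pair_unique h' with ⟨h1, h2⟩ | ⟨h1, -⟩
  · refine ⟨h1, RingEquiv.ext fun x => ?_⟩
    subst h1
    exact (π.injective (RingEquiv.congr_fun h2 x)).symm
  · exact absurd (RingEquiv.ext fun x => (π.injective (RingEquiv.congr_fun h1 x)).symm) hσ

/-- `π ∘ eta σ` is an automorphism only if `σ` inverts the squaring map. -/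
theorem eta_aut {π ρ σ : F ≃+* F} (h : ∀ x : F, π (eta σ x) = ρ x) : ∀ x : F, σ (x * x) = x := by
  have h' : ∀ x : F, σ x * (ρ.trans π.symm) x = (RingEquiv.refl F) x * 1 := by
    intro x
    rw [mul_one, RingEquiv.trans_apply, RingEquiv.refl_apply, ← h x, RingEquiv.symm_apply_apply, eta_apply]
    by_cases hx : x = 0
    · simp [hx]
    · rw [mul_div_cancel₀ _ (by simpa using hx)]
  have hsame : σ = ρ.trans π.symm := by
    refine RingEquiv.ext fun x => ?_
    by_contra hne
    have hpolar : ∀ u v : F, σ u * (ρ.trans π.symm) v + σ v * (ρ.trans π.symm) u = 0 := by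
      intro u v
      have := h' (u + v)
      simp only [map_add, mul_one, RingEquiv.refl_apply] at this
      have hu := h' u
      have hv := h' v
      simp only [mul_one, RingEquiv.refl_apply] at hu hv
      linear_combination this - hu - hv
    have := hpolar 1 x
    simp only [map_one, one_mul, mul_one] at this
    exact hne (by rw [CharTwo.add_eq_zero] at this; exact this.symm)
  intro x
  have := h' x
  rw [← hsame, mul_one, RingEquiv.refl_apply] at this
  rw [map_mul]
  exact this

/-- `x * ρ x` is an automorphism only if `ρ = 1`. -/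
theorem mul_aut {π ρ : F ≃+* F} (h : ∀ x : F, x * ρ x = π x) :
    ρ = RingEquiv.refl F ∧ ∀ x, π x = x * x := by
  have hρ : ρ = RingEquiv.refl F := by
    refine RingEquiv.ext fun x => ?_
    have h1 := h (1 + x)
    simp only [map_add, map_one] at h1
    have h2 := h x
    have h3 := h 1
    simp only [map_one, mul_one] at h3
    have : x + ρ x = 0 := by linear_combination h1 - h2 - h3
    exact (CharTwo.add_eq_zero.1 this).symm
  refine ⟨hρ, fun x => ?_⟩
  rw [← h x, hρ, RingEquiv.refl_apply]

end CfsgLib.SuzukiTwoGroup
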